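import Cfsg.Agent.Lib.ChevGen.Assemble

/-! GENERATED data: two generators of the Chevalley groups of type B2. -/

set_option autoImplicit false

namespace CfsgLib.ChevGen.DataB2

open Cfsg.Lie CfsgLib.Chev
open scoped MatrixGroups

/-- derivation of all fundamental roots -/
def steps : List (ℕ × ℕ) := [(2, 8), (1, 8), (5, 8), (7, 8), (4, 8), (0, 8)]

theorem data : DataOK chevB2 2 6 0 3 1 = true := by decide +kernel

theorem script : scriptOK chevB2 [1] steps [2, wPow chevB2 1 3] = true := by decide +kernel

theorem large {T : Tabs} (hc : Checked chevB2 T) (hcomm : CommOne chevB2 T) {F : Type*} [Field F] [Finite F]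
    (hF : ∃ x : F, x ≠ 0 ∧ x ≠ 1) :
    TwoGenerated chevB2 F :=
  twoGenerated_large hc hcomm hF data (by decide +kernel) script

end CfsgLib.ChevGen.DataB2
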