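import Cfsg.Agent.Lib.ChevGen.Assemble

/-! GENERATED data: two generators of the Chevalley groups of type D4. -/

set_option autoImplicit false

namespace CfsgLib.ChevGen.DataD4

open Cfsg.Lie CfsgLib.Chev
open scoped MatrixGroups

/-- derivation of all fundamental roots -/
def steps : List (ℕ × ℕ) := [(5, 24), (9, 24), (1, 24), (18, 24), (14, 24), (7, 24), (11, 24), (20, 24), (16, 24), (12, 24), (7, 5), (9, 5), (1, 9), (18, 1), (14, 7), (14, 18), (22, 5), (22, 14), (11, 9), (11, 22), (20, 5), (16, 9)]

theorem data : DataOK chevD4 5 22 2 3 1 = true := by decide +kernel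

theorem script : scriptOK chevD4 [1] steps [5, wPow chevD4 1 3] = true := by decide +kernel

theorem large {T : Tabs} (hc : Checked chevD4 T) (hcomm : CommOne chevD4 T) {F : Type*} [Field F] [Finite F]
    (hF : ∃ x : F, x ≠ 0 ∧ x ≠ 1) :
    TwoGenerated chevD4 F :=
  twoGenerated_large hc hcomm hF data (by decide +kernel) script

/-- derivation of the long roots needed -/
def longSteps : List (ℕ × ℕ) := [(22, 24), (5, 24), (9, 24), (1, 24), (18, 24), (5, 22), (9, 5), (1, 9), (18, 1), (14, 22), (14, 18)]

/-- derivation of all fundamental roots over two elements -/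
def smallSteps : List (ℕ × ℕ) := [(22, 24), (5, 24), (9, 24), (1, 24), (18, 24), (2, 24), (8, 24), (10, 24), (21, 24), (15, 24), (2, 22), (5, 22), (9, 5), (1, 9), (18, 2), (18, 1), (14, 22), (14, 18), (8, 5), (8, 14), (10, 22), (21, 5)]

theorem small {T : Tabs} (hc : Checked chevD4 T) (hcomm : CommOne chevD4 T) {F : Type*} [Field F]
    (hF : ∀ x : F, x ≠ 0 → x = 1) : TwoGenerated chevD4 F :=
  twoGenerated_small hc hcomm hF (c := 22) (b := 7) (r := 5) (k := 2) (steps1 := longSteps)
    (steps := smallSteps) (by decide +kernel)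

end CfsgLib.ChevGen.DataD4
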