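import Cfsg.Agent.Lib.ChevGen.Assemble

/-! GENERATED data: two generators of the Chevalley groups of type E6. -/

set_option autoImplicit false

namespace CfsgLib.ChevGen.DataE6

open Cfsg.Lie CfsgLib.Chev
open scoped MatrixGroups

/-- derivation of all fundamental roots -/
def steps : List (ℕ × ℕ) := [(70, 72), (55, 72), (41, 72), (10, 72), (4, 72), (0, 72), (1, 72), (16, 72), (30, 72), (61, 72), (67, 72), (2, 72), (17, 72), (31, 72), (33, 72), (62, 72), (68, 72), (53, 72), (66, 72), (45, 72), (14, 72), (21, 72), (2, 70), (0, 70), (1, 55), (16, 70), (16, 41), (30, 55), (30, 10), (61, 41), (61, 4), (67, 10), (67, 0), (71, 2), (71, 4), (71, 1), (17, 70), (17, 55), (31, 55), (31, 41), (33, 10), (62, 2), (62, 4), (68, 2), (68, 0), (68, 17), (53, 1), (53, 17), (53, 31), (66, 2), (66, 16), (66, 31), (66, 33), (45, 2), (45, 30), (45, 17), (45, 33), (45, 62), (14, 17), (14, 31), (14, 62), (14, 68), (21, 31), (21, 33), (21, 68), (21, 53), (7, 33), (7, 62), (7, 53), (7, 66)]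

theorem data : DataOK chevE6 70 71 2 7 1 = true := by decide +kernel

theorem script : scriptOK chevE6 [1] steps [70, wPow chevE6 1 7] = true := by decide +kernel

theorem large {T : Tabs} (hc : Checked chevE6 T) (hcomm : CommOne chevE6 T) {F : Type*} [Field F] [Finite F]
    (hF : ∃ x : F, x ≠ 0 ∧ x ≠ 1) :
    TwoGenerated chevE6 F :=
  twoGenerated_large hc hcomm hF data (by decide +kernel) script

/-- derivation of the long roots needed -/
def longSteps : List (ℕ × ℕ) := [(71, 72), (70, 72), (55, 72), (41, 72), (10, 72), (4, 72), (0, 72), (1, 72), (16, 72), (30, 72), (61, 72), (4, 71), (0, 70), (1, 71), (1, 55), (16, 70), (16, 41), (30, 55), (30, 10), (61, 41), (61, 4), (67, 10), (67, 0)]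

/-- derivation of all fundamental roots over two elements -/
def smallSteps : List (ℕ × ℕ) := [(71, 72), (70, 72), (55, 72), (41, 72), (10, 72), (4, 72), (0, 72), (1, 72), (16, 72), (30, 72), (61, 72), (53, 72), (66, 72), (45, 72), (14, 72), (21, 72), (7, 72), (2, 72), (17, 72), (31, 72), (33, 72), (62, 72), (4, 71), (0, 53), (0, 70), (1, 71), (1, 53), (1, 55), (16, 70), (16, 41), (30, 55), (30, 10), (61, 41), (61, 4), (67, 10), (67, 0), (66, 1), (66, 16), (45, 16), (45, 30), (14, 61), (21, 53), (21, 67), (7, 71), (7, 53), (7, 66), (2, 70), (2, 66), (2, 45), (17, 53), (17, 55), (17, 45), (17, 14), (31, 53), (31, 41), (31, 66), (31, 14), (31, 21), (33, 66), (33, 45), (33, 21), (33, 7), (62, 45), (62, 14), (62, 7), (62, 2), (68, 14), (68, 21), (68, 2), (68, 17)]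

theorem small {T : Tabs} (hc : Checked chevE6 T) (hcomm : CommOne chevE6 T) {F : Type*} [Field F]
    (hF : ∀ x : F, x ≠ 0 → x = 1) : TwoGenerated chevE6 F :=
  twoGenerated_small hc hcomm hF (c := 71) (b := 11) (r := 70) (k := 53) (steps1 := longSteps)
    (steps := smallSteps) (by decide +kernel)

end CfsgLib.ChevGen.DataE6
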