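import Cfsg.Agent.Lib.ChevGen.Assemble

/-! GENERATED data: two generators of the Chevalley groups of type E7. -/

set_option autoImplicit false

namespace CfsgLib.ChevGen.DataE7

open Cfsg.Lie CfsgLib.Chev
open scoped MatrixGroups

/-- derivation of all fundamental roots -/
def steps : List (ℕ × ℕ) := [(124, 126), (123, 126), (118, 126), (92, 126), (72, 126), (26, 126), (16, 126), (6, 126), (0, 126), (1, 126), (2, 126), (7, 126), (33, 126), (53, 126), (99, 126), (109, 126), (119, 126), (37, 126), (18, 126), (49, 126), (43, 126), (78, 126), (95, 126), (84, 126), (104, 126), (113, 126), (88, 126), (107, 126), (76, 126), (82, 126), (47, 126), (30, 126), (41, 126), (21, 126), (92, 37), (6, 124), (0, 124), (0, 123), (1, 123), (1, 118), (2, 124), (2, 118), (2, 92), (7, 124), (7, 123), (7, 92), (7, 72), (33, 123), (33, 118), (33, 72), (33, 26), (53, 118), (53, 92), (53, 26), (53, 16), (99, 92), (99, 72), (99, 16), (99, 6), (109, 72), (109, 26), (109, 6), (109, 0), (119, 37), (119, 26), (119, 16), (119, 0), (119, 1), (125, 16), (125, 6), (125, 1), (125,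 2), (18, 72), (18, 125), (49, 124), (49, 26), (43, 123), (43, 16), (78, 118), (78, 6), (95, 92), (95, 0), (84, 72), (84, 1), (104, 26), (104, 2), (113, 7), (88, 33), (68, 53), (68, 99), (77, 7), (77, 99), (77, 49), (77, 78), (32, 49), (32, 95), (31, 33), (31, 109), (31, 43), (31, 95), (52, 43), (52, 84), (42, 53), (42, 119), (42, 78), (42, 84), (73, 41), (46, 104), (22, 99), (22, 125), (22, 104), (83, 72), (83, 41), (13, 109), (103, 26), (103, 21), (40, 32), (4, 119), (112, 16), (112, 12), (20, 52), (9, 125), (121, 6), (50, 46)]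

theorem data : DataOK chevE7 124 125 2 12 1 = true := by decide +kernel

theorem script : scriptOK chevE7 [1] steps [124, wPow chevE7 1 12] = true := by decide +kernel

theorem large {T : Tabs} (hc : Checked chevE7 T) (hcomm : CommOne chevE7 T) {F : Type*} [Field F] [Finite F]
    (hF : ∃ x : F, x ≠ 0 ∧ x ≠ 1) :
    TwoGenerated chevE7 F :=
  twoGenerated_large hc hcomm hF data (by decide +kernel) script

/-- derivation of the long roots needed -/
def longSteps : List (ℕ × ℕ) := [(125, 126), (124, 126), (123, 126), (118, 126), (92, 126), (72, 126), (26, 126), (16, 126), (6, 126), (0, 126), (1, 126), (2, 126), (7, 126), (33, 126), (53, 126), (99, 126), (109, 126), (16, 125), (6, 125), (6, 124), (0, 124), (0, 123), (1, 125), (1, 123), (1, 118), (2, 125), (2, 124), (2, 118), (2, 92), (7, 124), (7, 123), (7, 92), (7, 72), (33, 123), (33, 118), (33, 72), (33, 26), (53, 118), (53, 92), (53, 26), (53, 16), (99, 92), (99, 72), (99, 16), (99, 6), (109, 72), (109, 26), (109, 6), (109, 0), (119, 26), (119, 16), (119, 0), (119, 1), (108, 2), (108, 53), (77,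 7), (77, 99), (31, 33), (31, 109), (42, 53), (42, 119), (94, 92), (22, 99), (83, 72), (29, 98), (13, 109), (103, 26), (40, 32), (4, 119), (112, 16), (20, 52)]

/-- derivation of all fundamental roots over two elements -/
def smallSteps : List (ℕ × ℕ) := [(125, 126), (124, 126), (123, 126), (118, 126), (92, 126), (72, 126), (26, 126), (16, 126), (6, 126), (0, 126), (1, 126), (2, 126), (7, 126), (33, 126), (53, 126), (99, 126), (109, 126), (110, 126), (120, 126), (115, 126), (122, 126), (117, 126), (91, 126), (71, 126), (68, 126), (25, 126), (15, 126), (5, 126), (10, 126), (3, 126), (8, 126), (34, 126), (54, 126), (57, 126), (26, 110), (16, 125), (16, 110), (6, 125), (6, 110), (6, 124), (0, 110), (0, 124), (0, 123), (1, 125), (1, 123), (1, 118), (2, 125), (2, 124), (2, 118), (2, 92), (7, 124), (7, 123), (7, 92), (7, 72), (33, 123), (33, 118), (33, 72), (33, 26), (53, 118), (53, 92), (53, 26), (53, 16), (99, 92), (99, 72), (99, 16), (99, 6), (109, 72), (109, 26), (109, 6), (109, 0), (119, 26), (119, 16), (119, 0), (119, 1), (120, 16), (120, 6), (120,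 0), (120, 1), (115, 6), (115, 0), (115, 1), (115, 2), (122, 0), (122, 1), (122, 2), (122, 7), (117, 1), (117, 7), (117, 33), (91, 2), (91, 33), (91, 53), (71, 7), (71, 53), (71, 99), (68, 110), (68, 33), (68, 99), (68, 109), (25, 109), (25, 119), (25, 120), (15, 125), (15, 119), (15, 115), (5, 125), (5, 122), (10, 110), (10, 124), (10, 117), (3, 123), (3, 120), (3, 91), (8, 118), (8, 115), (8, 71), (34, 122), (34, 68), (54, 117), (54, 25), (57, 91), (57, 15), (100, 71), (100, 5)]

theorem small {T : Tabs} (hc : Checked chevE7 T) (hcomm : CommOne chevE7 T) {F : Type*} [Field F]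
    (hF : ∀ x : F, x ≠ 0 → x = 1) : TwoGenerated chevE7 F :=
  twoGenerated_small hc hcomm hF (c := 125) (b := 34) (r := 124) (k := 110) (steps1 := longSteps)
    (steps := smallSteps) (by decide +kernel)

end CfsgLib.ChevGen.DataE7
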