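import Cfsg.Agent.Lib.ChevGen.Assemble

/-! GENERATED data: two generators of the Chevalley groups of type E8. -/

set_option autoImplicit false

namespace CfsgLib.ChevGen.DataE8

open Cfsg.Lie CfsgLib.Chev
open scoped MatrixGroups

/-- derivation of all fundamental roots -/
def steps : List (ℕ × ℕ) := [(224, 240), (218, 240), (203, 240), (161, 240), (134, 240), (70, 240), (55, 240), (35, 240), (13, 240), (5, 240), (4, 240), (3, 240), (2, 240), (1, 240), (0, 240), (15, 240), (21, 240), (36, 240), (78, 240), (105, 240), (169, 240), (184, 240), (204, 240), (226, 240), (234, 240), (235, 240), (236, 240), (237, 240), (238, 240), (20, 240), (6, 240), (7, 240), (14, 240), (8, 240), (16, 240), (22, 240), (37, 240), (79, 240), (106, 240), (110, 240), (170, 240), (185, 240), (205, 240), (227, 240), (219, 240), (233, 240), (232, 240), (225, 240), (231, 240), (223, 240), (217, 240), (202, 240), (160, 240), (133, 240), (129, 240), (69, 240), (54, 240), (34, 240), (2, 224), (1, 224), (1, 218), (0, 224), (0, 218), (0, 203), (15, 218), (15, 203), (15, 161), (21, 224), (21, 203), (21, 161),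 (21, 134), (36, 224), (36, 218), (36, 161), (36, 134), (36, 70), (78, 224), (78, 218), (78, 203), (78, 134), (78, 70), (78, 55), (105, 218), (105, 203), (105, 161), (105, 70), (105, 55), (105, 35), (169, 203), (169, 161), (169, 134), (169, 55), (169, 35), (169, 13), (184, 20), (184, 161), (184, 134), (184, 70), (184, 35), (184, 13), (184, 5), (204, 20), (204, 134), (204, 70), (204, 55), (204, 13), (204, 5), (204, 4), (226, 20), (226, 70), (226, 55), (226, 35), (226, 5), (226, 4), (226, 3), (234, 20), (234, 55), (234, 35), (234, 13), (234, 4), (234, 3), (234, 2), (235, 35), (235, 13), (235, 5), (235, 3), (235, 2), (235, 1), (236, 20), (236, 13), (236, 5), (236, 4), (236, 2), (236, 1), (236, 0), (237, 20), (237, 5), (237, 4), (237, 3), (237, 1), (237, 0), (237, 15), (238, 20), (238, 4), (238, 3), (238, 2), (238, 0), (238, 15), (238, 21), (239, 3), (239, 2), (239, 1), (239, 21), (239, 36), (6, 204), (6, 226), (6, 234), (6, 237), (6, 238), (6, 239), (7, 224), (7, 226), (7, 234), (7, 235), (7, 238), (7, 239), (14, 224), (14, 218), (14, 234), (14, 235), (14, 236), (14, 239), (8,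 224), (8, 218), (8, 203), (8, 235), (8, 236), (8, 237), (16, 218), (16, 203), (16, 161), (16, 236), (16, 237), (16, 238), (22, 203), (22, 161), (22, 134), (22, 237), (22, 238), (22, 239), (37, 224), (37, 161), (37, 134), (37, 70), (37, 238), (37, 239), (79, 224), (79, 218), (79, 134), (79, 70), (79, 55), (79, 239), (106, 224), (106, 218), (106, 203), (106, 70), (106, 55), (106, 35), (110, 218), (110, 203), (110, 161), (110, 55), (110, 35), (110, 13), (170, 203), (170, 161), (170, 35), (170, 13), (170, 5), (185, 20), (185, 161), (185, 134), (185, 13), (185, 5), (185, 4), (205, 20), (205, 134), (205, 70), (205, 5), (205, 4), (205, 3), (205, 6), (227, 70), (227, 4), (227, 6), (219, 55), (219, 3), (219, 7)]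

theorem data : DataOK chevE8 224 239 1 12 1 = true := by decide +kernel

theorem script : scriptOK chevE8 [1] steps [224, wPow chevE8 1 12] = true := by decide +kernel

theorem large {T : Tabs} (hc : Checked chevE8 T) (hcomm : CommOne chevE8 T) {F : Type*} [Field F] [Finite F]
    (hF : ∃ x : F, x ≠ 0 ∧ x ≠ 1) :
    TwoGenerated chevE8 F :=
  twoGenerated_large hc hcomm hF data (by decide +kernel) script

/-- derivation of the long roots needed -/
def longSteps : List (ℕ × ℕ) := [(239, 240), (224, 240), (218, 240), (203, 240), (161, 240), (134, 240), (70, 240), (55, 240), (35, 240), (13, 240), (5, 240), (4, 240), (3, 240), (2, 240), (1, 240), (0, 240), (15, 240), (21, 240), (36, 240), (78, 240), (105, 240), (169, 240), (184, 240), (204, 240), (226, 240), (234, 240), (235, 240), (236, 240), (237, 240), (4, 239), (3, 239), (3, 224), (2, 239), (2, 224), (2, 218), (1, 239), (1, 224), (1, 218), (1, 203), (0, 224), (0, 218), (0, 203), (0, 161), (15, 239), (15, 218), (15, 203), (15, 161), (15, 134), (21, 239), (21, 224), (21, 203), (21, 161), (21, 134), (21, 70), (36, 239), (36,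 224), (36, 218), (36, 161), (36, 134), (36, 70), (36, 55), (78, 239), (78, 224), (78, 218), (78, 203), (78, 134), (78, 70), (78, 55), (78, 35), (105, 224), (105, 218), (105, 203), (105, 161), (105, 70), (105, 55), (105, 35), (105, 13), (169, 218), (169, 203), (169, 161), (169, 134), (169, 55), (169, 35), (169, 13), (169, 5), (184, 203), (184, 161), (184, 134), (184, 70), (184, 35), (184, 13), (184, 5), (184, 4), (204, 161), (204, 134), (204, 70), (204, 55), (204, 13), (204, 5), (204, 4), (204, 3), (226, 134), (226, 70), (226, 55), (226, 35), (226, 5), (226, 4), (226, 3), (226, 2), (234, 70), (234, 55), (234, 35), (234, 13), (234, 4), (234, 3), (234, 2), (234, 1), (235, 55), (235, 35), (235, 13), (235, 5), (235, 3), (235, 2), (235, 1), (235, 0), (236, 35), (236, 13), (236, 5), (236, 4), (236, 2), (236, 1), (236, 0), (236, 15), (237, 13), (237, 5), (237, 4), (237, 3), (237, 1), (237, 0), (237, 15), (237, 21), (238, 5), (238, 4), (238, 3), (238, 2), (238, 0), (238, 15), (238, 21), (238, 36), (129, 21), (129, 36), (129, 78), (129, 184), (129, 204), (129, 226), (125, 78), (125,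 204), (69, 36), (69, 78), (69, 105), (69, 204), (69, 226), (69, 234), (122, 78), (122, 226), (68, 105), (68, 226), (54, 78), (54, 105), (54, 169), (54, 226), (54, 234), (54, 235), (67, 105), (67, 234), (53, 169), (34, 105), (34, 184), (34, 234), (34, 235), (34, 236), (52, 169), (52, 235), (33, 184), (12, 169), (12, 204), (12, 235), (12, 236), (12, 237), (87, 184), (45, 204), (20, 226), (20, 236), (20, 237), (20, 238), (187, 70), (61, 204), (29, 226), (6, 234), (6, 237), (6, 238), (206, 55), (152, 55), (48, 226), (10, 234), (7, 235), (7, 238), (227, 35), (194, 35), (178, 35), (30, 234), (30, 122), (18, 235), (14, 236), (219, 13), (210, 13), (191, 13), (62, 122), (62, 120), (43, 235), (43, 120), (43, 67), (24, 236), (8, 237), (233, 5), (229, 5), (209, 5), (102, 67), (102, 66), (83, 66), (83, 52), (16, 238), (232, 4), (95, 52), (95, 103), (225, 3), (72, 96), (231, 2), (88, 73)]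

/-- derivation of all fundamental roots over two elements -/
def smallSteps : List (ℕ × ℕ) := [(239, 240), (224, 240), (218, 240), (203, 240), (134, 240), (70, 240), (55, 240), (35, 240), (13, 240), (5, 240), (4, 240), (3, 240), (2, 240), (1, 240), (0, 240), (15, 240), (21, 240), (36, 240), (78, 240), (105, 240), (169, 240), (184, 240), (204, 240), (226, 240), (234, 240), (235, 240), (236, 240), (237, 240), (4, 239), (3, 239), (3, 224), (2, 239), (2, 224), (2, 218), (1, 239), (1, 224), (1, 218), (1, 203), (0, 224), (0, 218), (0, 203), (0, 161), (15, 239), (15, 134), (15, 218), (15, 203), (15, 161), (21, 239), (21, 134), (21, 224), (21, 203), (21, 161), (21, 70), (36, 239), (36, 134), (36, 224), (36, 218), (36, 161), (36, 70), (36, 55), (78, 239), (78, 134), (78, 224), (78, 218), (78, 203), (78, 70), (78, 55), (78, 35), (105, 224), (105, 218), (105, 203), (105, 161), (105, 70), (105, 55), (105, 35), (105, 13), (169, 134), (169, 218), (169, 203), (169, 161), (169, 55), (169, 35), (169, 13), (169, 5), (184, 134), (184, 203), (184, 161), (184, 70), (184, 35), (184, 13), (184,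 5), (184, 4), (204, 134), (204, 161), (204, 70), (204, 55), (204, 13), (204, 5), (204, 4), (204, 3), (226, 134), (226, 70), (226, 55), (226, 35), (226, 5), (226, 4), (226, 3), (226, 2), (234, 70), (234, 55), (234, 35), (234, 13), (234, 4), (234, 3), (234, 2), (234, 1), (235, 55), (235, 35), (235, 13), (235, 5), (235, 3), (235, 2), (235, 1), (235, 0), (236, 35), (236, 13), (236, 5), (236, 4), (236, 2), (236, 1), (236, 0), (236, 15), (237, 13), (237, 5), (237, 4), (237, 3), (237, 1), (237, 0), (237, 15), (237, 21), (238, 5), (238, 4), (238, 3), (238, 2), (238, 0), (238, 15), (238, 21), (238, 36), (129, 21), (129, 36), (129, 78), (129, 184), (129, 204), (129, 226), (125, 78), (125, 204), (69, 36), (69, 78), (69, 105), (69, 204), (69, 226), (69, 234), (122, 78), (122, 226), (68, 105), (68, 226), (54, 78), (54, 105), (54, 169), (54, 226), (54, 234), (54, 235), (67, 105), (67, 234), (53, 169), (34, 105), (34, 184), (34, 234), (34, 235), (34, 236), (52, 169), (52, 235), (33, 184), (12, 169), (12, 204), (12, 235), (12, 236), (12, 237), (20, 226), (20, 236), (20, 237), (20, 238),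 (87, 184), (45, 204), (187, 70), (29, 226), (61, 204), (6, 234), (6, 237), (6, 238), (206, 55), (48, 226), (152, 55), (10, 234), (7, 235), (7, 238), (227, 35), (194, 35), (178, 35), (30, 234), (30, 122), (18, 235), (14, 236), (219, 13), (210, 13), (191, 13), (62, 122), (62, 120), (43, 235), (43, 120), (43, 67), (24, 236), (8, 237), (177, 52), (177, 33), (177, 12), (102, 67), (102, 66), (83, 66), (83, 52), (16, 238), (232, 4), (95, 52), (95, 103), (225, 3), (72, 96), (231, 2), (88, 73)]

theorem small {T : Tabs} (hc : Checked chevE8 T) (hcomm : CommOne chevE8 T) {F : Type*} [Field F]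
    (hF : ∀ x : F, x ≠ 0 → x = 1) : TwoGenerated chevE8 F :=
  twoGenerated_small hc hcomm hF (c := 239) (b := 20) (r := 224) (k := 134) (steps1 := longSteps)
    (steps := smallSteps) (by decide +kernel)

end CfsgLib.ChevGen.DataE8
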