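import Cfsg.Agent.Lib.ChevGen.Assemble

/-! GENERATED data: two generators of the Chevalley groups of type F4. -/

set_option autoImplicit false

namespace CfsgLib.ChevGen.DataF4

open Cfsg.Lie CfsgLib.Chev
open scoped MatrixGroups

/-- derivation of all fundamental roots -/
def steps : List (ℕ × ℕ) := [(40, 48), (39, 48), (29, 48), (13, 48), (10, 48), (3, 48), (7, 48), (8, 48), (18, 48), (34, 48), (37, 48), (2, 48), (1, 48), (0, 48), (15, 48), (21, 48), (41, 48), (45, 48), (46, 48), (47, 48), (32, 48), (26, 48), (3, 40), (7, 39), (8, 40), (8, 29), (18, 39), (18, 13), (34, 29), (34, 10), (37, 13), (37, 3), (44, 10), (44, 7), (41, 2), (45, 1), (46, 2), (46, 0), (47, 1), (47, 15), (32, 0), (32, 21), (26, 15), (26, 41), (6, 21), (6, 45)]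

theorem data : DataOK chevF4 40 44 0 6 1 = true := by decide +kernel

theorem script : scriptOK chevF4 [1] steps [40, wPow chevF4 1 6] = true := by decide +kernel

theorem large {T : Tabs} (hc : Checked chevF4 T) (hcomm : CommOne chevF4 T) {F : Type*} [Field F] [Finite F]
    (hF : ∃ x : F, x ≠ 0 ∧ x ≠ 1) :
    TwoGenerated chevF4 F :=
  twoGenerated_large hc hcomm hF data (by decide +kernel) script

/-- derivation of the long roots needed -/
def longSteps : List (ℕ × ℕ) := [(47, 48), (32, 48), (26, 48), (6, 48), (2, 48), (1, 48), (0, 48), (15, 48), (21, 48), (41, 48), (45, 48), (1, 47), (0, 32), (15, 47), (15, 26), (21, 32), (21, 6), (41, 26), (41, 2), (45, 6), (45, 1), (46, 2), (46, 0)]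

/-- derivation of all fundamental roots over two elements -/
def smallSteps : List (ℕ × ℕ) := [(47, 48), (32, 48), (26, 48), (6, 48), (2, 48), (1, 48), (0, 48), (15, 48), (21, 48), (41, 48), (45, 48), (29, 48), (13, 48), (10, 48), (3, 48), (7, 48), (8, 48), (18, 48), (34, 48), (37, 48), (44, 48), (40, 48), (1, 47), (0, 32), (15, 47), (15, 26), (21, 32), (21, 6), (41, 26), (41, 2), (45, 6), (45, 1), (46, 2), (46, 0), (8, 29), (18, 13), (34, 29), (34, 10), (37, 13), (37, 3), (44, 10), (44, 7), (40, 3), (40, 8), (39, 7), (39, 18)]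

theorem small {T : Tabs} (hc : Checked chevF4 T) (hcomm : CommOne chevF4 T) {F : Type*} [Field F]
    (hF : ∀ x : F, x ≠ 0 → x = 1) : TwoGenerated chevF4 F :=
  twoGenerated_small hc hcomm hF (c := 47) (b := 19) (r := 32) (k := 29) (steps1 := longSteps)
    (steps := smallSteps) (by decide +kernel)

end CfsgLib.ChevGen.DataF4
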