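import Cfsg.Agent.Lib.ChevGen.Assemble

/-! GENERATED data: two generators of the Chevalley groups of type G2. -/

set_option autoImplicit false

namespace CfsgLib.ChevGen.DataG2

open Cfsg.Lie CfsgLib.Chev
open scoped MatrixGroups

/-- derivation of all fundamental roots -/
def steps : List (ℕ × ℕ) := [(8, 12), (4, 12), (2, 12), (3, 12), (7, 12), (5, 12), (10, 12), (11, 12), (6, 12), (1, 12)]

theorem data : DataOK chevG2 8 9 4 0 1 = true := by decide +kernel

theorem script : scriptOK chevG2 [1] steps [8, wPow chevG2 1 0] = true := by decide +kernel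

/-- derivation away from characteristic three -/
def steps' : List (ℕ × ℕ) := [(8, 12), (4, 12), (2, 12), (3, 12), (7, 12), (4, 8), (2, 4), (3, 2), (7, 3), (9, 8), (9, 7)]

theorem script' : scriptOK chevG2 [1, 3] steps' [8] = true := by decide +kernel

theorem large {T : Tabs} (hc : Checked chevG2 T) (hcomm : CommOne chevG2 T) {F : Type*} [Field F] [Finite F]
    (hF : ∃ x : F, x ≠ 0 ∧ x ≠ 1) :
    TwoGenerated chevG2 F :=
  twoGenerated_three hc hcomm hF data (by decide +kernel) script script'

end CfsgLib.ChevGen.DataG2
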